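/-
helper6: project SZCH (S4775): the character degrees of the Suzuki groups.  Definitions.

`SzData G` packages the group-theoretic facts on `G = Sz(q)`, `q = 2^(2m+1)`, that the character theory uses:
the Sylow 2-subgroup `Q` (T.I., `B = N(Q) = QK`), the torus `K` (cyclic of order `q - 1`, inverted by `w`),
the two T.I. tori `A₁`, `A₂` of orders `q ± r + 1` (`r = 2^(m+1)`) with normalizers of index 4, the Bruhat
decomposition `G = B ∪ BwB` and the fact that every element is conjugate into `Q ∪ K ∪ A₁ ∪ A₂`.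
-/
import Mathlib
import Cfsg.Prelude.Def_Characters
import Cfsg.Prelude.Def_DegreeGraph

set_option autoImplicit false

namespace Cfsg.Agent.Lib.Helper6.SzCh

open Cfsg
open scoped ComplexConjugate

universe u

/-- `q = 2^(2m+1)` -/
def qOf (m : ℕ) : ℕ := 2 ^ (2 * m + 1)
/-- `h = 2^m` (so `q = 2 h^2`) -/
def hOf (m : ℕ) : ℕ := 2 ^ m
/-- `r = 2^(m+1) = 2h` (so `r^2 = 2q`) -/
def rOf (m : ℕ) : ℕ := 2 ^ (m + 1)

/-- The group-theoretic data of a Suzuki group `Sz(q)`, `q = 2^(2m+1)`, `m ≥ 1`. -/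
structure SzData (G : Type u) [Group G] where
  m : ℕ
  hm : 1 ≤ m
  /-- a Sylow 2-subgroup -/
  Q : Subgroup G
  /-- the torus of order `q - 1` in `N(Q)` -/
  K : Subgroup G
  /-- the torus of order `q + r + 1` -/
  A₁ : Subgroup G
  /-- the torus of order `q - r + 1` -/
  A₂ : Subgroup G
  /-- an involution inverting `K` -/
  w : G
  card_G : Nat.card G = qOf m ^ 2 * (qOf m ^ 2 + 1) * (qOf m - 1)
  card_Q : Nat.card Q = qOf m ^ 2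
  card_K : Nat.card K = qOf m - 1
  card_A₁ : Nat.card A₁ = qOf m + rOf m + 1
  card_A₂ : Nat.card A₂ + rOf m = qOf m + 1
  /-- `B = N(Q) = QK` -/
  K_le : K ≤ Subgroup.normalizer (Q : Set G)
  norm_eq : ∀ g ∈ Subgroup.normalizer (Q : Set G), ∃ u ∈ Q, ∃ k ∈ K, g = u * k
  /-- `Q` is a T.I. subgroup -/
  Q_TI : ∀ g : G, g ∉ Subgroup.normalizer (Q : Set G) → ∀ u ∈ Q, g * u * g⁻¹ ∈ Q → u = 1
  /-- centralizers of non-identity elements of `Q` lie in `Q` -/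
  cent_Q : ∀ u ∈ Q, u ≠ 1 → Subgroup.centralizer ({u} : Set G) ≤ Q
  /-- `Z = Z(Q)` has order `q` and exponent 2 -/
  card_Z : Nat.card ↥(Q ⊓ Subgroup.centralizer (Q : Set G)) = qOf m
  Z_sq : ∀ z ∈ Q, z ∈ Subgroup.centralizer (Q : Set G) → z * z = 1
  /-- the elements of `Q \ Z` (of order 4) have centralizers of order `2q` and are not real -/
  card_cent : ∀ x ∈ Q, x ∉ Subgroup.centralizer (Q : Set G) →
    Nat.card ↥(Subgroup.centralizer ({x} : Set G)) = 2 * qOf m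
  not_real : ∀ x ∈ Q, x ∉ Subgroup.centralizer (Q : Set G) → ¬ IsConj x x⁻¹
  /-- the torus `K` -/
  K_comm : ∀ a ∈ K, ∀ b ∈ K, a * b = b * a
  cent_K : ∀ k ∈ K, k ≠ 1 → Subgroup.centralizer ({k} : Set G) = K
  card_norm_K : Nat.card ↥(Subgroup.normalizer (K : Set G)) = 2 * (qOf m - 1)
  w_sq : w * w = 1
  w_inv : ∀ k ∈ K, w * k * w⁻¹ = k⁻¹
  w_not : w ∉ Subgroup.normalizer (Q : Set G)
  /-- `B ∩ B^w = K` -/
  inter_conj : ∀ b ∈ Subgroup.normalizer (Q : Set G),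
    w * b * w⁻¹ ∈ Subgroup.normalizer (Q : Set G) → b ∈ K
  /-- `G = B ∪ BwB` -/
  bruhat : ∀ g : G, g ∈ Subgroup.normalizer (Q : Set G) ∨
    ∃ b ∈ Subgroup.normalizer (Q : Set G), ∃ b' ∈ Subgroup.normalizer (Q : Set G), g = b * w * b'
  /-- the tori `A₁`, `A₂` -/
  A₁_comm : ∀ a ∈ A₁, ∀ b ∈ A₁, a * b = b * a
  A₂_comm : ∀ a ∈ A₂, ∀ b ∈ A₂, a * b = b * a
  cent_A₁ : ∀ a ∈ A₁, a ≠ 1 → Subgroup.centralizer ({a} : Set G) = A₁
  cent_A₂ : ∀ a ∈ A₂, a ≠ 1 → Subgroup.centralizer ({a} : Set G) = A₂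
  card_norm_A₁ : Nat.card ↥(Subgroup.normalizer (A₁ : Set G)) = 4 * Nat.card A₁
  card_norm_A₂ : Nat.card ↥(Subgroup.normalizer (A₂ : Set G)) = 4 * Nat.card A₂
  /-- every element is conjugate into `Q ∪ K ∪ A₁ ∪ A₂` -/
  cover : ∀ g : G, ∃ x : G, x * g * x⁻¹ ∈ Q ∨ x * g * x⁻¹ ∈ K ∨ x * g * x⁻¹ ∈ A₁ ∨ x * g * x⁻¹ ∈ A₂

namespace SzData

variable {G : Type u} [Group G] (D : SzData G)

/-- `q` -/
def q : ℕ := qOf D.m
/-- `h = 2^m` -/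
def h : ℕ := hOf D.m
/-- `r = 2^(m+1)` -/
def r : ℕ := rOf D.m
/-- the Borel subgroup `B = N(Q)` -/
def B : Subgroup G := Subgroup.normalizer (D.Q : Set G)
/-- `Z = Z(Q)` -/
def Z : Subgroup G := D.Q ⊓ Subgroup.centralizer (D.Q : Set G)

end SzData

variable {G : Type u} [Group G]

/-- the sum of `f` over the non-identity elements of the subgroup `H` -/
noncomputable def sumNe (H : Subgroup G) (f : G → ℂ) : ℂ :=
  ∑ᶠ x : {x : G // x ∈ H ∧ x ≠ 1}, f (x : G)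

/-- `g` is conjugate to a non-identity element of `H` -/
def ConjInto (H : Subgroup G) (g : G) : Prop := g ≠ 1 ∧ ∃ x : G, x * g * x⁻¹ ∈ H

/-- an irreducible character of `B` with `Q` in its kernel (a linear character of `B/Q ≅ K`) -/
def IsLinQ (D : SzData G) (lam : ↥D.B → ℂ) : Prop :=
  IsIrrCharacter ↥D.B lam ∧ ∀ u : ↥D.B, (u : G) ∈ D.Q → lam u = 1

/-- `χ` is cuspidal: its restriction to `B` contains no character of `B/Q` -/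
def IsCusp (D : SzData G) [Fintype ↥D.B] (χ : G → ℂ) : Prop :=
  ∀ lam : ↥D.B → ℂ, IsLinQ D lam → classInner (fun b : ↥D.B => χ (b : G)) lam = 0

/-- restriction of a function on `G` to the Borel subgroup `B` -/
def resB (D : SzData G) (χ : G → ℂ) : ↥D.B → ℂ := fun b => χ (b : G)

/-- The character table of `B` apart from the `q - 1` linear characters of `B/Q`: three irreducible characters
`φ` (degree `q - 1`), `ψ₁`, `ψ₂` (degree `h (q - 1)`), all vanishing off `Q`. -/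
structure BTable (D : SzData G) where
  φ : ↥D.B → ℂ
  ψ₁ : ↥D.B → ℂ
  ψ₂ : ↥D.B → ℂ
  irr_φ : IsIrrCharacter ↥D.B φ
  irr_ψ₁ : IsIrrCharacter ↥D.B ψ₁
  irr_ψ₂ : IsIrrCharacter ↥D.B ψ₂
  /-- every irreducible character of `B` is a character of `B/Q` or one of `φ`, `ψ₁`, `ψ₂` -/
  complete : ∀ ξ : ↥D.B → ℂ, IsIrrCharacter ↥D.B ξ → IsLinQ D ξ ∨ ξ = φ ∨ ξ = ψ₁ ∨ ξ = ψ₂
  φ_off : ∀ b : ↥D.B, (b : G) ∉ D.Q → φ b = 0
  ψ₁_off : ∀ b : ↥D.B, (b : G) ∉ D.Q → ψ₁ b = 0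
  ψ₂_off : ∀ b : ↥D.B, (b : G) ∉ D.Q → ψ₂ b = 0
  /-- `φ = q - 1` on `Z` (including the identity) and `-1` on `Q \ Z` -/
  φ_Z : ∀ b : ↥D.B, (b : G) ∈ D.Z → φ b = (D.q : ℂ) - 1
  φ_QZ : ∀ b : ↥D.B, (b : G) ∈ D.Q → (b : G) ∉ D.Z → φ b = -1
  ψ₁_one : ψ₁ 1 = (D.h : ℂ) * ((D.q : ℂ) - 1)
  ψ₂_one : ψ₂ 1 = (D.h : ℂ) * ((D.q : ℂ) - 1)
  /-- `ψ_i = -h` on `Z \ 1` -/
  ψ₁_Z : ∀ b : ↥D.B, (b : G) ∈ D.Z → b ≠ 1 → ψ₁ b = -(D.h : ℂ)
  ψ₂_Z : ∀ b : ↥D.B, (b : G) ∈ D.Z → b ≠ 1 → ψ₂ b = -(D.h : ℂ)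
  /-- on `Q \ Z`: `ψ₁ = ± h i` and `ψ₂ = - ψ₁` -/
  ψ_neg : ∀ b : ↥D.B, (b : G) ∈ D.Q → (b : G) ∉ D.Z → ψ₂ b = -ψ₁ b
  ψ_sq : ∀ b : ↥D.B, (b : G) ∈ D.Q → (b : G) ∉ D.Z → ψ₁ b ^ 2 = -((D.h : ℂ) ^ 2)

namespace BTable

variable {D : SzData G} (T : BTable D) [Fintype ↥D.B]

/-- the multiplicity of `φ` in `χ|_B` -/
noncomputable def pa (χ : G → ℂ) : ℕ := ⌊(classInner (resB D χ) T.φ).re⌋₊
/-- the multiplicity of `ψ₁` in `χ|_B` -/
noncomputable def pb (χ : G → ℂ) : ℕ := ⌊(classInner (resB D χ) T.ψ₁).re⌋₊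
/-- the multiplicity of `ψ₂` in `χ|_B` -/
noncomputable def pc (χ : G → ℂ) : ℕ := ⌊(classInner (resB D χ) T.ψ₂).re⌋₊

end BTable

/-- the expected set of character degrees of `Sz(q)` -/
def szDegrees (m : ℕ) : Set ℕ :=
  {1, qOf m ^ 2, qOf m ^ 2 + 1, hOf m * (qOf m - 1), (qOf m - 1) * (qOf m + 1 - rOf m),
    (qOf m - 1) * (qOf m + rOf m + 1)}

end Cfsg.Agent.Lib.Helper6.SzCh
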