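/-
helper6: project SZCH (S4775): the character degrees of a group with `SzData` (a Suzuki group `Sz(q)`):
`charDegrees G = {1, q², q²+1, h(q-1), (q-1)(q+1-r), (q-1)(q+r+1)}`.
Assembly of the modules of the project: [B-TABLE], [EXC-TI] helper73; [ALL-SUMS], [MACKEY] helper41; [NC] helper65;
[C-VAL], [B-LIN], [G-COPRIME] helper25; [X-FAM] helper86; [NORM-ID], [DEG-LARGE], [DEG-8] helper51; [G-BASIC], [G-SUM] helper45.
-/
import Mathlib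
import Cfsg.Agent.Lib.Helper6.SzCh.Defs
import Cfsg.Agent.Lib.Helper65.SzChNC
import Cfsg.Agent.Lib.Helper41.SzChAllSums
import Cfsg.Agent.Lib.Helper25.SzChCVal
import Cfsg.Agent.Lib.Helper51.SzChDeg8
import Cfsg.Agent.Lib.Helper51.SzChDegLarge
import Cfsg.Agent.Lib.Helper51.SzChNormId
import Cfsg.Agent.Lib.Helper86.SzChXFam
import Cfsg.Agent.Lib.Helper73.SzChBTable
import Cfsg.Agent.Lib.Helper79.Integrality
import Cfsg.Agent.Lib.Helper78.CharValues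

set_option autoImplicit false
set_option linter.unusedSectionVars false

namespace Cfsg.Agent.Lib.Helper6.SzCh

open Cfsg Cfsg.Agent.Lib.Helper65.SzCh
open Cfsg.Agent.Lib.Helper41.SzCh Cfsg.Agent.Lib.Helper25.SzCh Cfsg.Agent.Lib.Helper51.SzCh
open Cfsg.Agent.Lib.Helper86.SzCh Cfsg.Agent.Lib.Helper73.SzCh
open scoped ComplexConjugate Classical

universe u

variable {G : Type u} [Group G]

theorem q_eq_two_h_sq (m : ℕ) : qOf m = 2 * hOf m ^ 2 := by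
  unfold qOf hOf
  rw [← pow_mul, pow_succ, mul_comm m 2]; ring

theorem r_eq_two_h (m : ℕ) : rOf m = 2 * hOf m := by
  unfold rOf hOf
  rw [pow_succ]; ring

theorem two_le_h {m : ℕ} (hm : 1 ≤ m) : 2 ≤ hOf m := by
  unfold hOf
  calc 2 = 2 ^ 1 := by norm_num
    _ ≤ 2 ^ m := Nat.pow_le_pow_right (by norm_num) hm

/-- the type of cuspidal irreducible characters -/
abbrev Cusp (D : SzData G) [Fintype ↥D.B] : Type u := {χ : IrrCharacter G // IsCusp D χ.1}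

section sums

variable [Fintype G] (D : SzData G) [Fintype ↥D.B] (T : BTable D)

theorem sum_cusp_eq (f : IrrCharacter G → ℤ) :
    ∑ i : Cusp D, f i.1 = ∑ χ : IrrCharacter G, f χ -
      ∑ χ ∈ Finset.univ.filter (fun χ : IrrCharacter G => ¬ IsCusp D χ.1), f χ := by
  have h1 := Finset.sum_filter_add_sum_filter_not Finset.univ (fun χ : IrrCharacter G => IsCusp D χ.1) f
  have h2 : ∑ i : Cusp D, f i.1 = ∑ χ ∈ Finset.univ.filter (fun χ : IrrCharacter G => IsCusp D χ.1), f χ := by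
    rw [Finset.sum_subtype (Finset.univ.filter (fun χ : IrrCharacter G => IsCusp D χ.1))
      (p := fun χ : IrrCharacter G => IsCusp D χ.1) (by simp) f]
  rw [h2]; linarith

theorem cusp_sums :
    ∑ i : Cusp D, (T.pa i.1.1 : ℤ) ^ 2 = (D.h : ℤ) ^ 2 ∧
    ∑ i : Cusp D, (T.pa i.1.1 : ℤ) * T.pb i.1.1 = (D.h : ℤ) * ((D.h : ℤ) ^ 2 - 1) ∧
    ∑ i : Cusp D, (T.pa i.1.1 : ℤ) * T.pc i.1.1 = (D.h : ℤ) * ((D.h : ℤ) ^ 2 - 1) ∧
    ∑ i : Cusp D, (T.pb i.1.1 : ℤ) ^ 2 = 1 + (D.h : ℤ) ^ 2 * ((D.h : ℤ) ^ 2 - 1) ∧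
    ∑ i : Cusp D, (T.pb i.1.1 : ℤ) * T.pc i.1.1 = (D.h : ℤ) ^ 2 * ((D.h : ℤ) ^ 2 - 1) ∧
    ∑ i : Cusp D, (T.pc i.1.1 : ℤ) ^ 2 = 1 + (D.h : ℤ) ^ 2 * ((D.h : ℤ) ^ 2 - 1) := by
  obtain ⟨a1, a2, a3, a4, a5, a6⟩ := all_sums D T
  obtain ⟨n1, n2, n3, n4, n5, n6⟩ := nc_sums D T
  have hq : (D.q : ℤ) = 2 * (D.h : ℤ) ^ 2 := by
    have := q_eq_two_h_sq D.m
    unfold SzData.q SzData.h; exact_mod_cast this
  have hq1 : ((D.q - 1 : ℕ) : ℤ) = 2 * (D.h : ℤ) ^ 2 - 1 := by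
    have h1 : 1 ≤ D.q := by unfold SzData.q qOf; exact Nat.one_le_two_pow
    rw [Nat.cast_sub h1, hq]; simp
  have c := fun (f : IrrCharacter G → ℤ) => sum_cusp_eq D f
  refine ⟨?_, ?_, ?_, ?_, ?_, ?_⟩
  · rw [c (fun χ => (T.pa χ.1 : ℤ) ^ 2)]
    have e1 : ∑ χ : IrrCharacter G, (T.pa χ.1 : ℤ) ^ 2 = (D.q : ℤ) := by exact_mod_cast a1
    have e2 : ∑ χ ∈ Finset.univ.filter (fun χ : IrrCharacter G => ¬ IsCusp D χ.1), (T.pa χ.1 : ℤ) ^ 2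
        = (D.h : ℤ) ^ 2 := by exact_mod_cast n1
    rw [e1, e2, hq]; ring
  · rw [c (fun χ => (T.pa χ.1 : ℤ) * T.pb χ.1)]
    have e1 : ∑ χ : IrrCharacter G, (T.pa χ.1 : ℤ) * T.pb χ.1 = (D.h : ℤ) * ((D.q - 1 : ℕ) : ℤ) := by
      exact_mod_cast a2
    have e2 : ∑ χ ∈ Finset.univ.filter (fun χ : IrrCharacter G => ¬ IsCusp D χ.1),
        (T.pa χ.1 : ℤ) * T.pb χ.1 = (D.h : ℤ) ^ 3 := by exact_mod_cast n2
    rw [e1, e2, hq1]; ring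
  · rw [c (fun χ => (T.pa χ.1 : ℤ) * T.pc χ.1)]
    have e1 : ∑ χ : IrrCharacter G, (T.pa χ.1 : ℤ) * T.pc χ.1 = (D.h : ℤ) * ((D.q - 1 : ℕ) : ℤ) := by
      exact_mod_cast a3
    have e2 : ∑ χ ∈ Finset.univ.filter (fun χ : IrrCharacter G => ¬ IsCusp D χ.1),
        (T.pa χ.1 : ℤ) * T.pc χ.1 = (D.h : ℤ) ^ 3 := by exact_mod_cast n3
    rw [e1, e2, hq1]; ring
  · rw [c (fun χ => (T.pb χ.1 : ℤ) ^ 2)]
    have e1 : ∑ χ : IrrCharacter G, (T.pb χ.1 : ℤ) ^ 2 = 1 + (D.h : ℤ) ^ 2 * ((D.q - 1 : ℕ) : ℤ) := by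
      exact_mod_cast a4
    have e2 : ∑ χ ∈ Finset.univ.filter (fun χ : IrrCharacter G => ¬ IsCusp D χ.1), (T.pb χ.1 : ℤ) ^ 2
        = (D.h : ℤ) ^ 4 := by exact_mod_cast n4
    rw [e1, e2, hq1]; ring
  · rw [c (fun χ => (T.pb χ.1 : ℤ) * T.pc χ.1)]
    have e1 : ∑ χ : IrrCharacter G, (T.pb χ.1 : ℤ) * T.pc χ.1 = (D.h : ℤ) ^ 2 * ((D.q - 1 : ℕ) : ℤ) := by
      exact_mod_cast a5
    have e2 : ∑ χ ∈ Finset.univ.filter (fun χ : IrrCharacter G => ¬ IsCusp D χ.1),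
        (T.pb χ.1 : ℤ) * T.pc χ.1 = (D.h : ℤ) ^ 4 := by exact_mod_cast n5
    rw [e1, e2, hq1]; ring
  · rw [c (fun χ => (T.pc χ.1 : ℤ) ^ 2)]
    have e1 : ∑ χ : IrrCharacter G, (T.pc χ.1 : ℤ) ^ 2 = 1 + (D.h : ℤ) ^ 2 * ((D.q - 1 : ℕ) : ℤ) := by
      exact_mod_cast a6
    have e2 : ∑ χ ∈ Finset.univ.filter (fun χ : IrrCharacter G => ¬ IsCusp D χ.1), (T.pc χ.1 : ℤ) ^ 2
        = (D.h : ℤ) ^ 4 := by exact_mod_cast n6
    rw [e1, e2, hq1]; ring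

end sums

section params

variable [Fintype G] (D : SzData G) [Fintype ↥D.B] (T : BTable D)

theorem pa_congr {χ χ' : G → ℂ} (h : resB D χ = resB D χ') :
    T.pa χ = T.pa χ' ∧ T.pb χ = T.pb χ' ∧ T.pc χ = T.pc χ' := by
  unfold BTable.pa BTable.pb BTable.pc
  rw [h]; exact ⟨rfl, rfl, rfl⟩

theorem card_A₁_int : (Nat.card D.A₁ : ℤ) = (D.q : ℤ) + D.r + 1 := by
  have := D.card_A₁
  unfold SzData.q SzData.r; exact_mod_cast this

theorem card_A₂_int : (Nat.card D.A₂ : ℤ) = (D.q : ℤ) - D.r + 1 := by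
  have := D.card_A₂
  have h2 : (Nat.card D.A₂ : ℤ) + (D.r : ℤ) = (D.q : ℤ) + 1 := by
    unfold SzData.q SzData.r; exact_mod_cast this
  linarith

theorem cusp_pos (i : Cusp D) : 0 < T.pa i.1.1 + T.pb i.1.1 + T.pc i.1.1 := by
  have h1 := cusp_degree D T i.1.2 i.2
  have h2 := Cfsg.Agent.Lib.Helper78.IsIrrCharacter.charDegree_pos i.1.2
  rw [h1] at h2
  by_contra hcon
  have h0 : T.pa i.1.1 + T.pb i.1.1 + T.pc i.1.1 = 0 := by omega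
  have ha : T.pa i.1.1 = 0 := by omega
  have hb : T.pb i.1.1 = 0 := by omega
  have hc : T.pc i.1.1 = 0 := by omega
  rw [ha, hb, hc] at h2
  simp at h2

/-- the norm identity with integer values of the two torus sums -/
theorem norm_id_int (i : Cusp D) (S₁ S₂ : ℤ)
    (h1 : sumNe D.A₁ (fun g => i.1.1 g * conj (i.1.1 g)) = (S₁ : ℂ))
    (h2 : sumNe D.A₂ (fun g => i.1.1 g * conj (i.1.1 g)) = (S₂ : ℂ)) :
    4 * (D.q : ℤ) ^ 2 * ((D.q : ℤ) ^ 2 + 1) * ((D.q : ℤ) - 1) =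
      4 * ((D.q : ℤ) - 1) ^ 2 * ((T.pa i.1.1 : ℤ) + (D.h : ℤ) * ((T.pb i.1.1 : ℤ) + T.pc i.1.1)) ^ 2 +
      4 * ((D.q : ℤ) ^ 2 + 1) * ((D.q : ℤ) - 1) *
        (((T.pa i.1.1 : ℤ) * ((D.q : ℤ) - 1) - (D.h : ℤ) * ((T.pb i.1.1 : ℤ) + T.pc i.1.1)) ^ 2 +
          (D.q : ℤ) * ((T.pa i.1.1 : ℤ) ^ 2 + (D.h : ℤ) ^ 2 * ((T.pb i.1.1 : ℤ) - T.pc i.1.1) ^ 2)) +
      (D.q : ℤ) ^ 2 * ((D.q : ℤ) - 1) * ((D.q : ℤ) - D.r + 1) * S₁ +
      (D.q : ℤ) ^ 2 * ((D.q : ℤ) - 1) * ((D.q : ℤ) + D.r + 1) * S₂ := by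
  have key := norm_id D T i.1.2 i.2
  rw [h1, h2] at key
  have e1 : (Nat.card D.A₁ : ℂ) = (((D.q : ℤ) + D.r + 1 : ℤ) : ℂ) := by
    rw [← card_A₁_int D]; simp
  have e2 : (Nat.card D.A₂ : ℂ) = (((D.q : ℤ) - D.r + 1 : ℤ) : ℂ) := by
    rw [← card_A₂_int D]; simp
  rw [e1, e2] at key
  have key' : ((4 * (D.q : ℤ) ^ 2 * ((D.q : ℤ) ^ 2 + 1) * ((D.q : ℤ) - 1) : ℤ) : ℂ) =
      ((4 * ((D.q : ℤ) - 1) ^ 2 * ((T.pa i.1.1 : ℤ) + (D.h : ℤ) * ((T.pb i.1.1 : ℤ) + T.pc i.1.1)) ^ 2 +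
      4 * ((D.q : ℤ) ^ 2 + 1) * ((D.q : ℤ) - 1) *
        (((T.pa i.1.1 : ℤ) * ((D.q : ℤ) - 1) - (D.h : ℤ) * ((T.pb i.1.1 : ℤ) + T.pc i.1.1)) ^ 2 +
          (D.q : ℤ) * ((T.pa i.1.1 : ℤ) ^ 2 + (D.h : ℤ) ^ 2 * ((T.pb i.1.1 : ℤ) - T.pc i.1.1) ^ 2)) +
      (D.q : ℤ) ^ 2 * ((D.q : ℤ) - 1) * ((D.q : ℤ) - D.r + 1) * S₁ +
      (D.q : ℤ) ^ 2 * ((D.q : ℤ) - 1) * ((D.q : ℤ) + D.r + 1) * S₂ : ℤ) : ℂ) := by
    push_cast
    push_cast at key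
    linear_combination key
  exact_mod_cast key'

/-- the subfamily of `Cusp D` given by a finset of cuspidal irreducible characters -/
noncomputable def subY (Y : Finset (IrrCharacter G)) : Finset (Cusp D) :=
  Y.subtype (fun χ : IrrCharacter G => IsCusp D χ.1)

theorem mem_subY (Y : Finset (IrrCharacter G)) (i : Cusp D) : i ∈ subY D Y ↔ i.1 ∈ Y := by
  unfold subY; rw [Finset.mem_subtype]

theorem card_subY (Y : Finset (IrrCharacter G)) (hY : ∀ χ ∈ Y, IsCusp D χ.1) :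
    (subY D Y).card = Y.card := by
  unfold subY
  rw [Finset.card_subtype]
  congr 1
  apply Finset.filter_true_of_mem hY

theorem cusp_params_large (hm : 2 ≤ D.m) :
    (∀ i : Cusp D, (T.pa i.1.1 : ℤ) + (D.h : ℤ) * ((T.pb i.1.1 : ℤ) + T.pc i.1.1) = D.h ∨
      (T.pa i.1.1 : ℤ) + (D.h : ℤ) * ((T.pb i.1.1 : ℤ) + T.pc i.1.1) = (D.q : ℤ) + 1 - D.r ∨
      (T.pa i.1.1 : ℤ) + (D.h : ℤ) * ((T.pb i.1.1 : ℤ) + T.pc i.1.1) = (D.q : ℤ) + D.r + 1) ∧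
    (∃ i : Cusp D, (T.pa i.1.1 : ℤ) + (D.h : ℤ) * ((T.pb i.1.1 : ℤ) + T.pc i.1.1) = D.h) ∧
    (∃ i : Cusp D, (T.pa i.1.1 : ℤ) + (D.h : ℤ) * ((T.pb i.1.1 : ℤ) + T.pc i.1.1) = (D.q : ℤ) + 1 - D.r) ∧
    (∃ i : Cusp D, (T.pa i.1.1 : ℤ) + (D.h : ℤ) * ((T.pb i.1.1 : ℤ) + T.pc i.1.1) = (D.q : ℤ) + D.r + 1) := by
  have hh : (D.h : ℤ) = 2 ^ D.m := by unfold SzData.h hOf; push_cast; rfl
  have hq : (D.q : ℤ) = 2 * (D.h : ℤ) ^ 2 := by
    have := q_eq_two_h_sq D.m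
    unfold SzData.q SzData.h; exact_mod_cast this
  have hr : (D.r : ℤ) = 2 * (D.h : ℤ) := by
    have := r_eq_two_h D.m
    unfold SzData.r SzData.h; exact_mod_cast this
  have h4 : (4 : ℤ) ≤ D.h := by
    rw [hh]
    calc (4 : ℤ) = 2 ^ 2 := by norm_num
      _ ≤ 2 ^ D.m := pow_le_pow_right₀ (by norm_num) hm
  -- sizes of the tori
  have hn1 : 25 ≤ Nat.card D.A₁ := by
    have := card_A₁_int D
    have : (25 : ℤ) ≤ Nat.card D.A₁ := by rw [this, hq, hr]; nlinarith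
    exact_mod_cast this
  have hn2 : 25 ≤ Nat.card D.A₂ := by
    have := card_A₂_int D
    have : (25 : ℤ) ≤ Nat.card D.A₂ := by rw [this, hq, hr]; nlinarith
    exact_mod_cast this
  obtain ⟨Y₁, hc1, hcusp1, hres1, hl1⟩ := exc_family D D.A₁ (Or.inl rfl) (by omega)
  obtain ⟨Y₂, hc2, hcusp2, hres2, hl2⟩ := exc_family D D.A₂ (Or.inr rfl) (by omega)
  obtain ⟨hin1, hout1⟩ := hl1 hn1
  obtain ⟨hin2, hout2⟩ := hl2 hn2
  obtain ⟨s1, s2, s3, s4, s5, s6⟩ := cusp_sums D T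
  refine deg_large D.m hm (D.q : ℤ) (D.h : ℤ) (D.r : ℤ) hh hq hr
    (fun i : Cusp D => T.pa i.1.1) (fun i => T.pb i.1.1) (fun i => T.pc i.1.1)
    (cusp_pos D T) s1 ?_ ?_ (subY D Y₁) (subY D Y₂) ?_ ?_ ?_ ?_ ?_
  · -- s3
    have : ∀ i : Cusp D, ((T.pb i.1.1 : ℤ) + T.pc i.1.1) ^ 2 =
        (T.pb i.1.1 : ℤ) ^ 2 + 2 * ((T.pb i.1.1 : ℤ) * T.pc i.1.1) + (T.pc i.1.1 : ℤ) ^ 2 := fun i => by ring
    simp only [this]
    rw [Finset.sum_add_distrib, Finset.sum_add_distrib, ← Finset.mul_sum, s4, s5, s6, hq]; ring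
  · -- s4
    have : ∀ i : Cusp D, ((T.pb i.1.1 : ℤ) - T.pc i.1.1) ^ 2 =
        (T.pb i.1.1 : ℤ) ^ 2 - 2 * ((T.pb i.1.1 : ℤ) * T.pc i.1.1) + (T.pc i.1.1 : ℤ) ^ 2 := fun i => by ring
    simp only [this]
    rw [Finset.sum_add_distrib, Finset.sum_sub_distrib, ← Finset.mul_sum, s4, s5, s6]; ring
  · rw [card_subY D Y₁ hcusp1]
    have := card_A₁_int D
    have h : ((Y₁.card * 4 + 1 : ℕ) : ℤ) = Nat.card D.A₁ := by exact_mod_cast hc1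
    push_cast at h; linarith
  · rw [card_subY D Y₂ hcusp2]
    have := card_A₂_int D
    have h : ((Y₂.card * 4 + 1 : ℕ) : ℤ) = Nat.card D.A₂ := by exact_mod_cast hc2
    push_cast at h; linarith
  · intro i hi j hj
    rw [mem_subY] at hi hj
    exact pa_congr D T (hres1 _ hi _ hj)
  · intro i hi j hj
    rw [mem_subY] at hi hj
    exact pa_congr D T (hres2 _ hi _ hj)
  · intro i
    -- the two torus sums
    have hS1 : ∃ S₁ : ℤ, sumNe D.A₁ (fun g => i.1.1 g * conj (i.1.1 g)) = (S₁ : ℂ) ∧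
        (i ∈ subY D Y₁ → S₁ = 4 * ((D.q : ℤ) + D.r + 1) - 16) ∧
          (i ∉ subY D Y₁ → ∃ v : ℤ, S₁ = ((D.q : ℤ) + D.r) * v ^ 2) := by
      by_cases hi : i.1 ∈ Y₁
      · refine ⟨4 * ((D.q : ℤ) + D.r + 1) - 16, ?_, fun _ => rfl, ?_⟩
        · rw [hin1 _ hi]
          have e1 : (Nat.card D.A₁ : ℂ) = (((D.q : ℤ) + D.r + 1 : ℤ) : ℂ) := by
            rw [← card_A₁_int D]; simp
          rw [e1]; push_cast; ring
        · intro h; exact absurd ((mem_subY D Y₁ i).mpr hi) h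
      · obtain ⟨v, hv⟩ := hout1 _ hi
        refine ⟨((D.q : ℤ) + D.r) * v ^ 2, ?_, ?_, fun _ => ⟨v, rfl⟩⟩
        · rw [hv]
          have e1 : (Nat.card D.A₁ : ℂ) = (((D.q : ℤ) + D.r + 1 : ℤ) : ℂ) := by
            rw [← card_A₁_int D]; simp
          rw [e1]; push_cast; ring
        · intro h; exact absurd ((mem_subY D Y₁ i).mp h) hi
    have hS2 : ∃ S₂ : ℤ, sumNe D.A₂ (fun g => i.1.1 g * conj (i.1.1 g)) = (S₂ : ℂ) ∧
        (i ∈ subY D Y₂ → S₂ = 4 * ((D.q : ℤ) - D.r + 1) - 16) ∧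
          (i ∉ subY D Y₂ → ∃ v : ℤ, S₂ = ((D.q : ℤ) - D.r) * v ^ 2) := by
      by_cases hi : i.1 ∈ Y₂
      · refine ⟨4 * ((D.q : ℤ) - D.r + 1) - 16, ?_, fun _ => rfl, ?_⟩
        · rw [hin2 _ hi]
          have e1 : (Nat.card D.A₂ : ℂ) = (((D.q : ℤ) - D.r + 1 : ℤ) : ℂ) := by
            rw [← card_A₂_int D]; simp
          rw [e1]; push_cast; ring
        · intro h; exact absurd ((mem_subY D Y₂ i).mpr hi) h
      · obtain ⟨v, hv⟩ := hout2 _ hi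
        refine ⟨((D.q : ℤ) - D.r) * v ^ 2, ?_, ?_, fun _ => ⟨v, rfl⟩⟩
        · rw [hv]
          have e1 : (Nat.card D.A₂ : ℂ) = (((D.q : ℤ) - D.r + 1 : ℤ) : ℂ) := by
            rw [← card_A₂_int D]; simp
          rw [e1]; push_cast; ring
        · intro h; exact absurd ((mem_subY D Y₂ i).mp h) hi
    obtain ⟨S₁, hs1, hS1a, hS1b⟩ := hS1
    obtain ⟨S₂, hs2, hS2a, hS2b⟩ := hS2
    exact ⟨S₁, S₂, hS1a, hS1b, hS2a, hS2b, norm_id_int D T i S₁ S₂ hs1 hs2⟩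

theorem cusp_params_eight (hm : D.m = 1) :
    (∀ i : Cusp D, T.pa i.1.1 + 2 * (T.pb i.1.1 + T.pc i.1.1) = 2 ∨
      T.pa i.1.1 + 2 * (T.pb i.1.1 + T.pc i.1.1) = 5 ∨ T.pa i.1.1 + 2 * (T.pb i.1.1 + T.pc i.1.1) = 13) ∧
    (∃ i : Cusp D, T.pa i.1.1 + 2 * (T.pb i.1.1 + T.pc i.1.1) = 2) ∧
    (∃ i : Cusp D, T.pa i.1.1 + 2 * (T.pb i.1.1 + T.pc i.1.1) = 5) ∧
    (∃ i : Cusp D, T.pa i.1.1 + 2 * (T.pb i.1.1 + T.pc i.1.1) = 13) := by
  have hh : D.h = 2 := by unfold SzData.h hOf; rw [hm]; norm_num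
  have hq : D.q = 8 := by unfold SzData.q qOf; rw [hm]; norm_num
  have hr : D.r = 4 := by unfold SzData.r rOf; rw [hm]; norm_num
  have hn1 : Nat.card D.A₁ = 13 := by
    have := D.card_A₁
    have hq' : qOf D.m = 8 := hq
    have hr' : rOf D.m = 4 := hr
    rw [this, hq', hr']
  obtain ⟨Y, hc, hcusp, hres, -⟩ := exc_family D D.A₁ (Or.inl rfl) (by omega)
  obtain ⟨s1, s2, s3, s4, s5, s6⟩ := cusp_sums D T
  rw [hh] at s1 s2 s3 s4 s5 s6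
  refine deg_eight (fun i : Cusp D => T.pa i.1.1) (fun i => T.pb i.1.1) (fun i => T.pc i.1.1)
    (cusp_pos D T) ?_ ?_ ?_ ?_ (subY D Y) ?_ ?_ ?_
  · have : ((∑ i : Cusp D, T.pa i.1.1 ^ 2 : ℕ) : ℤ) = 4 := by push_cast; rw [s1]; norm_num
    exact_mod_cast this
  · have : ((∑ i : Cusp D, T.pa i.1.1 * (T.pb i.1.1 + T.pc i.1.1) : ℕ) : ℤ) = 12 := by
      push_cast
      simp only [mul_add]
      rw [Finset.sum_add_distrib, s2, s3]; norm_num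
    exact_mod_cast this
  · have : ((∑ i : Cusp D, (T.pb i.1.1 + T.pc i.1.1) ^ 2 : ℕ) : ℤ) = 50 := by
      push_cast
      have : ∀ i : Cusp D, ((T.pb i.1.1 : ℤ) + T.pc i.1.1) ^ 2 =
        (T.pb i.1.1 : ℤ) ^ 2 + 2 * ((T.pb i.1.1 : ℤ) * T.pc i.1.1) + (T.pc i.1.1 : ℤ) ^ 2 := fun i => by ring
      simp only [this]
      rw [Finset.sum_add_distrib, Finset.sum_add_distrib, ← Finset.mul_sum, s4, s5, s6]; norm_num
    exact_mod_cast this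
  · have : ∀ i : Cusp D, ((T.pb i.1.1 : ℤ) - T.pc i.1.1) ^ 2 =
        (T.pb i.1.1 : ℤ) ^ 2 - 2 * ((T.pb i.1.1 : ℤ) * T.pc i.1.1) + (T.pc i.1.1 : ℤ) ^ 2 := fun i => by ring
    simp only [this]
    rw [Finset.sum_add_distrib, Finset.sum_sub_distrib, ← Finset.mul_sum, s4, s5, s6]; norm_num
  · rw [card_subY D Y hcusp]; omega
  · intro i hi j hj
    rw [mem_subY] at hi hj
    exact pa_congr D T (hres _ hi _ hj)
  · intro i
    have h1 := Cfsg.Agent.Lib.Helper79.irr_charDegree_dvd_card i.1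
    have h2 := cusp_degree D T i.1.2 i.2
    rw [h2, hq, hh, D.card_G] at h1
    have : qOf D.m = 8 := hq
    rw [this] at h1
    norm_num at h1
    exact h1

/-- the parameters of the cuspidal characters, all `m ≥ 1`, in `ℕ` -/
theorem cusp_params :
    (∀ i : Cusp D, T.pa i.1.1 + D.h * (T.pb i.1.1 + T.pc i.1.1) = D.h ∨
      T.pa i.1.1 + D.h * (T.pb i.1.1 + T.pc i.1.1) = D.q + 1 - D.r ∨
      T.pa i.1.1 + D.h * (T.pb i.1.1 + T.pc i.1.1) = D.q + D.r + 1) ∧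
    (∃ i : Cusp D, T.pa i.1.1 + D.h * (T.pb i.1.1 + T.pc i.1.1) = D.h) ∧
    (∃ i : Cusp D, T.pa i.1.1 + D.h * (T.pb i.1.1 + T.pc i.1.1) = D.q + 1 - D.r) ∧
    (∃ i : Cusp D, T.pa i.1.1 + D.h * (T.pb i.1.1 + T.pc i.1.1) = D.q + D.r + 1) := by
  have hrq : D.r ≤ D.q + 1 := by
    have h1 := q_eq_two_h_sq D.m
    have h2 := r_eq_two_h D.m
    have h3 := two_le_h D.hm
    unfold SzData.r SzData.q
    rw [h1, h2]; nlinarith
  rcases Nat.lt_or_ge D.m 2 with hlt | hge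
  · have hm : D.m = 1 := by have := D.hm; omega
    have hh : D.h = 2 := by unfold SzData.h hOf; rw [hm]; norm_num
    have hq : D.q = 8 := by unfold SzData.q qOf; rw [hm]; norm_num
    have hr : D.r = 4 := by unfold SzData.r rOf; rw [hm]; norm_num
    rw [hh, hq, hr]
    exact cusp_params_eight D T hm
  · obtain ⟨h1, ⟨i2, h2⟩, ⟨i3, h3⟩, ⟨i4, h4⟩⟩ := cusp_params_large D T hge
    have hcast : ((D.q + 1 - D.r : ℕ) : ℤ) = (D.q : ℤ) + 1 - D.r := by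
      rw [Nat.cast_sub hrq]; push_cast; ring
    refine ⟨fun i => ?_, ⟨i2, ?_⟩, ⟨i3, ?_⟩, ⟨i4, ?_⟩⟩
    · rcases h1 i with h | h | h
      · left; exact_mod_cast h
      · right; left
        have : ((T.pa i.1.1 + D.h * (T.pb i.1.1 + T.pc i.1.1) : ℕ) : ℤ) = ((D.q + 1 - D.r : ℕ) : ℤ) := by
          rw [hcast, ← h]; push_cast; ring
        exact_mod_cast this
      · right; right; exact_mod_cast h
    · exact_mod_cast h2
    · have : ((T.pa i3.1.1 + D.h * (T.pb i3.1.1 + T.pc i3.1.1) : ℕ) : ℤ) = ((D.q + 1 - D.r : ℕ) : ℤ) := by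
        rw [hcast, ← h3]; push_cast; ring
      exact_mod_cast this
    · exact_mod_cast h4

end params

/-- **The character degrees of a Suzuki group.** -/
theorem charDegrees_eq [Finite G] (D : SzData G) : charDegrees G = szDegrees D.m := by
  have : Fintype G := Fintype.ofFinite G
  have : Fintype ↥D.B := Fintype.ofFinite _
  obtain ⟨T⟩ := exists_bTable D
  obtain ⟨hall, ⟨i2, h2⟩, ⟨i3, h3⟩, ⟨i4, h4⟩⟩ := cusp_params D T
  obtain ⟨⟨χ1, hχ1⟩, ⟨χ2, hχ2⟩, ⟨χ3, hχ3⟩⟩ := nc_exists D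
  have hdeg : ∀ i : Cusp D, charDegree i.1.1 =
      (D.q - 1) * (T.pa i.1.1 + D.h * (T.pb i.1.1 + T.pc i.1.1)) := fun i => cusp_degree D T i.1.2 i.2
  ext d
  unfold charDegrees szDegrees
  simp only [Set.mem_ofPred_eq, Set.mem_insert_iff, Set.mem_singleton_iff]
  constructor
  · rintro ⟨χ, rfl⟩
    by_cases hc : IsCusp D χ.1
    · have hd := hdeg ⟨χ, hc⟩
      simp only at hd
      rcases hall ⟨χ, hc⟩ with h | h | h
      · right; right; right; left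
        rw [hd]; simp only at h; rw [h]; exact mul_comm _ _
      · right; right; right; right; left
        rw [hd]; simp only at h; rw [h]; rfl
      · right; right; right; right; right
        rw [hd]; simp only at h; rw [h]; rfl
    · rcases nc_degree D χ hc with h | h | h
      · left; exact h
      · right; left; exact h
      · right; right; left; exact h
  · rintro (h | h | h | h | h | h)
    · exact ⟨χ1, by rw [hχ1, h]⟩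
    · exact ⟨χ2, by rw [hχ2, h]; rfl⟩
    · exact ⟨χ3, by rw [hχ3, h]; rfl⟩
    · exact ⟨i2.1, by rw [hdeg i2, h2, h]; exact mul_comm _ _⟩
    · exact ⟨i3.1, by rw [hdeg i3, h3, h]; rfl⟩
    · exact ⟨i4.1, by rw [hdeg i4, h4, h]; rfl⟩

end Cfsg.Agent.Lib.Helper6.SzCh
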