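/-
helper6: project SZCH (S4775), module [I-A]: the tori `A₁`, `A₂` of `Cfsg.Sz F m` and the covering of the group by the
conjugates of `Q`, `K`, `A₁`, `A₂`.
-/
import Mathlib
import Cfsg.Agent.Lib.Helper6.SzPartition

set_option autoImplicit false

namespace Cfsg.Agent.Lib.Helper6.SzCh

open Cfsg Matrix MulAction Cfsg.Agent.Lib.Helper6

variable {F : Type*} [Field F] [Fintype F] [CharP F 2] {m : ℕ} (hσ : SgSq (F := F) m)

/-- every element of `Sz F m` with a fixed point on the ovoid is conjugate into `Q ∪ K` -/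
theorem conj_of_fixed (hm : 1 ≤ m) (hF : Fintype.card F = 2 ^ (2 * m + 1)) (g : Sz F m)
    (a : suzukiOvoid F m) (ha : g • a = a) :
    ∃ x : Sz F m, x * g * x⁻¹ ∈ szTsub hσ ∨ x * g * x⁻¹ ∈ szHsub hσ := by
  classical
  have h3 := sz_three_pt hm hF
  by_cases hfix2 : ∃ b : suzukiOvoid F m, b ≠ a ∧ g • b = b
  · -- two fixed points: conjugate into `K`
    obtain ⟨b, hba, hb⟩ := hfix2
    obtain ⟨y, hy, h1, h2⟩ := sz_exists_map hσ a.2 b.2 (fun h => hba (Subtype.ext h).symm)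
    set x : Sz F m := ⟨y, hy⟩ with hx
    have h1' : y⁻¹ • suzukiPointInfinity F = (a : Projectivization F (Fin 4 → F)) := by
      rw [inv_smul_eq_iff, h1]
    have h2' : y⁻¹ • suzukiPointZero F = (b : Projectivization F (Fin 4 → F)) := by
      rw [inv_smul_eq_iff, h2]
    have hta' : (g : SpecialLinearGroup (Fin 4) F) • (a : Projectivization F (Fin 4 → F)) = a :=
      congrArg Subtype.val ha
    have htb' : (g : SpecialLinearGroup (Fin 4) F) • (b : Projectivization F (Fin 4 → F)) = b :=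
      congrArg Subtype.val hb
    have hk : ∃ k : Fˣ, ((x * g * x⁻¹ : Sz F m) : SpecialLinearGroup (Fin 4) F) = szH m k := by
      apply eq_szH_of_fix hm hF (x * g * x⁻¹).2
      · change (y * (g : SpecialLinearGroup (Fin 4) F) * y⁻¹) • suzukiPointInfinity F = _
        rw [mul_smul, mul_smul, h1', hta', h1]
      · change (y * (g : SpecialLinearGroup (Fin 4) F) * y⁻¹) • suzukiPointZero F = _
        rw [mul_smul, mul_smul, h2', htb', h2]
    obtain ⟨k, hk⟩ := hk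
    exact ⟨x, Or.inr ⟨k, Subtype.ext hk.symm⟩⟩
  · -- exactly one fixed point: a 2-element
    push Not at hfix2
    have hu : ∀ b, g • b = b → b = a := by
      intro b hb
      by_contra hne
      exact hfix2 b hne hb
    obtain ⟨j, hj⟩ := exists_two_pow_of_unique_fixed (sz_card_ovoid hF) h3 ha hu (Commute.refl g)
    have hZ : IsPGroup 2 (Subgroup.zpowers g) := by
      rintro ⟨z, hz⟩
      obtain ⟨i, rfl⟩ := Subgroup.mem_zpowers_iff.mp hz
      refine ⟨j, Subtype.ext ?_⟩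
      change (g ^ i) ^ 2 ^ j = 1
      rw [← zpow_natCast, ← _root_.zpow_mul, mul_comm, _root_.zpow_mul, zpow_natCast, hj, _root_.one_zpow]
    obtain ⟨x, hx⟩ := exists_conj_le_szTsub hσ hm hF hZ
    exact ⟨x, Or.inl (hx g (Subgroup.mem_zpowers g))⟩

theorem inst_tori (hm : 1 ≤ m) (hF : Fintype.card F = 2 ^ (2 * m + 1)) :
    ∃ A₁ A₂ : Subgroup (Sz F m),
      Nat.card A₁ = 2 ^ (2 * m + 1) + 2 ^ (m + 1) + 1 ∧
      Nat.card A₂ + 2 ^ (m + 1) = 2 ^ (2 * m + 1) + 1 ∧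
      (∀ a ∈ A₁, ∀ b ∈ A₁, a * b = b * a) ∧ (∀ a ∈ A₂, ∀ b ∈ A₂, a * b = b * a) ∧
      (∀ a ∈ A₁, a ≠ 1 → Subgroup.centralizer ({a} : Set (Sz F m)) = A₁) ∧
      (∀ a ∈ A₂, a ≠ 1 → Subgroup.centralizer ({a} : Set (Sz F m)) = A₂) ∧
      Nat.card ↥(Subgroup.normalizer (A₁ : Set (Sz F m))) = 4 * Nat.card A₁ ∧
      Nat.card ↥(Subgroup.normalizer (A₂ : Set (Sz F m))) = 4 * Nat.card A₂ ∧
      ∀ g : Sz F m, ∃ x : Sz F m, x * g * x⁻¹ ∈ szTsub hσ ∨ x * g * x⁻¹ ∈ szHsub hσ ∨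
        x * g * x⁻¹ ∈ A₁ ∨ x * g * x⁻¹ ∈ A₂ := by
  classical
  obtain ⟨x₁, x₂, hx₁, hx₂, hc₁, hc₂, hn₁, hn₂, hcov⟩ := sz_fpf_classes hm hF
  have hle : 2 ^ (m + 1) ≤ 2 ^ (2 * m + 1) := Nat.pow_le_pow_right (by norm_num) (by omega)
  have hcomm : ∀ x : Sz F m, SzFpf x → ∀ a ∈ Subgroup.centralizer ({x} : Set (Sz F m)),
      ∀ b ∈ Subgroup.centralizer ({x} : Set (Sz F m)), a * b = b * a := by
    intro x hx a ha b hb
    have hcyc := hx.isCyclic_centralizer hm hF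
    have h := (IsCyclic.commGroup (α := Subgroup.centralizer ({x} : Set (Sz F m)))).mul_comm
      ⟨a, ha⟩ ⟨b, hb⟩
    exact congrArg Subtype.val h
  refine ⟨Subgroup.centralizer {x₁}, Subgroup.centralizer {x₂}, hc₁, ?_, hcomm x₁ hx₁, hcomm x₂ hx₂,
    ?_, ?_, ?_, ?_, ?_⟩
  · rw [hc₂]; omega
  · intro u hu hu1
    exact hx₁.centralizer_eq hm hF hu1 (Subgroup.mem_centralizer_singleton_iff.mp hu)
  · intro u hu hu1
    exact hx₂.centralizer_eq hm hF hu1 (Subgroup.mem_centralizer_singleton_iff.mp hu)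
  · rw [hn₁, hc₁]
  · rw [hn₂, hc₂]
  · intro g
    by_cases hfix : ∃ a : suzukiOvoid F m, g • a = a
    · obtain ⟨a, ha⟩ := hfix
      obtain ⟨x, hx | hx⟩ := conj_of_fixed hσ hm hF g a ha
      · exact ⟨x, Or.inl hx⟩
      · exact ⟨x, Or.inr (Or.inl hx)⟩
    · push Not at hfix
      have hfpf : SzFpf g := hfix
      rcases hcov g hfpf with ⟨-, x, hx⟩ | ⟨-, x, hx⟩
      · exact ⟨x, Or.inr (Or.inr (Or.inl hx))⟩
      · exact ⟨x, Or.inr (Or.inr (Or.inr hx))⟩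

end Cfsg.Agent.Lib.Helper6.SzCh
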