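/-
helper6: project SZCH (S4775): the Suzuki group `Cfsg.Sz F m` carries an `SzData` (modules [I-A] helper6, [I-B] [I-Z] helper38,
[I-K] [I-W] helper49).
-/
import Mathlib
import Cfsg.Agent.Lib.Helper49.SzChIK
import Cfsg.Agent.Lib.Helper49.SzChIW
import Cfsg.Agent.Lib.Helper6.SzCh.InstA
import Cfsg.Agent.Lib.Helper38.SzChIB
import Cfsg.Agent.Lib.Helper38.SzChIZ
import Cfsg.Agent.Lib.Helper6.SzCh.Defs

set_option autoImplicit false

namespace Cfsg.Agent.Lib.Helper6.SzCh

open Cfsg Matrix Cfsg.Agent.Lib.Helper6 Cfsg.Agent.Lib.Helper49.SzCh Cfsg.Agent.Lib.Helper38.SzCh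

variable {F : Type*} [Field F] [Fintype F] {m : ℕ}

/-- the data of the Suzuki group `Cfsg.Sz F m` -/
theorem nonempty_szData (hm : 1 ≤ m) (hF : Fintype.card F = 2 ^ (2 * m + 1)) :
    ∃ D : SzData ↥(Sz F m), D.m = m := by
  have : CharP F 2 := sz_charP hF
  have hσ : SgSq (F := F) m := sgSq_of_card m hF
  obtain ⟨A₁, A₂, c1, c2, k1, k2, z1, z2, n1, n2, hcov⟩ := inst_tori hσ hm hF
  have hcF : Nat.card F = 2 ^ (2 * m + 1) := by rw [Nat.card_eq_fintype_card, hF]
  refine ⟨{
    m := m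
    hm := hm
    Q := szTsub hσ
    K := szHsub hσ
    A₁ := A₁
    A₂ := A₂
    w := ⟨szW, szW_mem hσ⟩
    card_G := by unfold qOf; exact card_Sz hm hF
    card_Q := by unfold qOf; rw [card_szTsub, hcF]
    card_K := by unfold qOf; rw [card_szHsub, hcF]
    card_A₁ := by unfold qOf rOf; exact c1
    card_A₂ := by unfold qOf rOf; exact c2
    K_le := inst_K_le hσ hm hF
    norm_eq := inst_norm_eq hσ hm hF
    Q_TI := inst_Q_TI hσ hm hF
    cent_Q := inst_cent_Q hσ hm hF
    card_Z := by unfold qOf; exact inst_card_Z hσ hm hF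
    Z_sq := inst_Z_sq hσ hm hF
    card_cent := by unfold qOf; exact inst_card_cent hσ hm hF
    not_real := inst_not_real hσ hm hF
    K_comm := inst_K_comm hσ
    cent_K := inst_cent_K hσ hm hF
    card_norm_K := by unfold qOf; exact inst_card_norm_K hσ hm hF
    w_sq := inst_w_sq hσ
    w_inv := inst_w_inv hσ
    w_not := inst_w_not hσ hm hF
    inter_conj := inst_inter_conj hσ hm hF
    bruhat := inst_bruhat hσ hm hF
    A₁_comm := k1
    A₂_comm := k2
    cent_A₁ := z1
    cent_A₂ := z2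
    card_norm_A₁ := n1
    card_norm_A₂ := n2
    cover := hcov }, rfl⟩

end Cfsg.Agent.Lib.Helper6.SzCh
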